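import Cfsg.Agent.Components.StrongFusion.Step

/-!
The strong form of the Alperin–Goldschmidt conjugation theorem.
-/

set_option linter.style.haveILetI false
set_option linter.unusedSectionVars false

namespace Cfsg.Lib.StrongFusion

open Subgroup Cfsg.Lib.SolvStruct.Alperin

variable {G : Type*} [Group G] [Finite G] {p : ℕ} [hp : Fact p.Prime]

/-- chains of factors -/
inductive SC (P : Sylow p G) : Set G → G → Prop
  | one (A : Set G) : SC P A 1
  | cons (A : Set G) (D : Subgroup G) (x k : G) : A ⊆ (D : Set G) → Step P D x → SC P (cj x A) k → SC P A (x * k)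

variable {P : Sylow p G}

theorem SC.mono {A : Set G} {g : G} (h : SC P A g) : ∀ B ⊆ A, SC P B g := by
  induction h with
  | one A => exact fun B _ => SC.one B
  | cons A D x k hA hD _ ih => exact fun B hB => SC.cons B D x k (hB.trans hA) hD (ih _ (cj_mono x hB))

theorem SC.trans {A : Set G} {g : G} (h : SC P A g) : ∀ k, SC P (cj g A) k → SC P A (g * k) := by
  induction h with
  | one A => intro k hk; rw [cj_one] at hk; rwa [one_mul]
  | cons A D x k hA hD _ ih =>
    intro l hl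
    rw [mul_assoc]
    exact SC.cons A D x _ hA hD (ih l (by rwa [cj_cj]))

theorem SC.conj {A : Set G} {g : G} (h : SC P A g) {z : G} (hz : z ∈ normalizer ((P : Subgroup G) : Set G)) :
    SC P (cj z A) (z⁻¹ * g * z) := by
  induction h with
  | one A => rw [mul_one, inv_mul_cancel]; exact SC.one _
  | cons A D x k hA hD _ ih =>
    rw [show z⁻¹ * (x * k) * z = z⁻¹ * x * z * (z⁻¹ * k * z) by group]
    refine SC.cons _ (D.map (MulAut.conj z⁻¹).toMonoidHom) _ _ ?_ ?_ ?_
    · rw [← cj_subgroup]; exact cj_mono z hA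
    · have h1 := hD.map (MulAut.conj z⁻¹) (mem_normalizer_iff_map_conj_eq.mp (inv_mem hz))
      rwa [show MulAut.conj z⁻¹ x = z⁻¹ * x * z by simp] at h1
    · rw [cj_cj, show z * (z⁻¹ * x * z) = x * z by group, ← cj_cj]
      exact ih

/-- chains up to a centralizing factor and a final factor normalizing `P` -/
def GC (P : Sylow p G) (A : Set G) (g : G) : Prop :=
  ∃ c ∈ centralizer A, ∃ k, SC P A k ∧ ∃ y ∈ normalizer ((P : Subgroup G) : Set G), g = c * k * y

theorem GC.mono {A : Set G} {g : G} (h : GC P A g) (B : Set G) (hB : B ⊆ A) : GC P B g := by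
  obtain ⟨c, hc, k, hk, y, hy, rfl⟩ := h
  exact ⟨c, centralizer_le hB hc, k, hk.mono B hB, y, hy, rfl⟩

theorem GC.trans {A : Set G} {g h : G} (hg : GC P A g) (hh : GC P (cj g A) h) : GC P A (g * h) := by
  obtain ⟨c, hc, k, hk, y, hy, rfl⟩ := hg
  obtain ⟨c', hc', k', hk', y', hy', rfl⟩ := hh
  have hA : cj (c * k * y) A = cj y (cj k A) := by
    rw [cj_cj, mul_assoc, ← cj_cj c (k * y), Cfsg.Lib.Misc.AGChain.cj_centralizer hc]
  rw [hA] at hc' hk'
  have hk'' := hk'.conj (inv_mem hy)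
  rw [cj_cj, mul_inv_cancel, cj_one, inv_inv] at hk''
  refine ⟨c * (k * (y * c' * y⁻¹) * k⁻¹), mul_mem hc ?_, k * (y * k' * y⁻¹), hk.trans _ hk'', y * y',
    mul_mem hy hy', by group⟩
  intro a ha
  have h1 := hc' (y⁻¹ * (k⁻¹ * a * k) * y) ⟨_, ⟨a, ha, rfl⟩, rfl⟩
  calc a * (k * (y * c' * y⁻¹) * k⁻¹) = k * (y * ((y⁻¹ * (k⁻¹ * a * k) * y) * c') * y⁻¹) * k⁻¹ := by group
    _ = k * (y * (c' * (y⁻¹ * (k⁻¹ * a * k) * y)) * y⁻¹) * k⁻¹ := by rw [h1]
    _ = _ := by group

theorem cj_of_normalizer {D : Subgroup G} {x : G} (hx : x ∈ normalizer (D : Set G)) : cj x (D : Set G) = (D : Set G) := by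
  rw [cj_subgroup]
  exact congrArg _ (mem_normalizer_iff_map_conj_eq.mp (inv_mem hx))

theorem gc_of_larger {D : Subgroup G} (hlt : D < (P : Subgroup G))
    (hidx : ¬ p ∣ ((P : Subgroup G) ⊓ normalizer (D : Set G)).relIndex (normalizer (D : Set G)))
    (hbig : ∀ R : Subgroup G, D < R → R ≤ (P : Subgroup G) → ∀ g : G,
      (∀ r ∈ R, g⁻¹ * r * g ∈ (P : Subgroup G)) → GC P (R : Set G) g) :
    ∀ x ∈ normalizer (D : Set G), GC P (D : Set G) x := by
  set N := normalizer (D : Set G) with hN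
  let W : Subgroup G :=
    { carrier := {x | x ∈ N ∧ GC P (D : Set G) x}
      one_mem' := ⟨one_mem N, 1, one_mem _, 1, SC.one _, 1, one_mem _, by group⟩
      mul_mem' := fun {a b} ha hb => ⟨mul_mem ha.1 hb.1, ha.2.trans (by rw [cj_of_normalizer ha.1]; exact hb.2)⟩
      inv_mem' := fun {a} ha => by
        have hpow : ∀ n : ℕ, a ^ n ∈ {x | x ∈ N ∧ GC P (D : Set G) x} := by
          intro n
          induction n with
          | zero => rw [pow_zero]; exact ⟨one_mem N, 1, one_mem _, 1, SC.one _, 1, one_mem _, by group⟩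
          | succ n ih =>
            rw [pow_succ]
            exact ⟨mul_mem ih.1 ha.1, ih.2.trans (by rw [cj_of_normalizer ih.1]; exact ha.2)⟩
        have e : a⁻¹ = a ^ (orderOf a - 1) := inv_eq_of_mul_eq_one_right (by
          rw [← pow_succ', Nat.sub_add_cancel (orderOf_pos a), pow_orderOf_eq_one])
        exact e ▸ hpow _ }
  have hmove : ∀ R : Subgroup G, D < R → R ≤ (P : Subgroup G) → ∀ n ∈ N,
      (∀ r ∈ R, n⁻¹ * r * n ∈ (P : Subgroup G)) → n ∈ W := fun R h1 h2 n hn h3 =>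
    ⟨hn, (hbig R h1 h2 n h3).mono _ (SetLike.coe_subset_coe.mpr h1.le)⟩
  by_cases hWN : ∀ x ∈ N, x ∈ W
  · exact fun x hx => (hWN x hx).2
  have hwit : Wit P D W := by
    refine ⟨fun x hx => hx.1, fun e => hWN fun x hx => e.ge hx, fun c hc => ?_, hmove⟩
    exact ⟨centralizer_le_normalizer _ hc, c, hc, 1, SC.one _, 1, one_mem _, by group⟩
  exfalso
  refine hWN fun x hx => ?_
  obtain ⟨X, hDX, hXN, hNX, hdX, hleast⟩ := exists_least_X hlt hidx hwit
  set U := (P : Subgroup G) ⊓ X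
  have hUP : U ≤ (P : Subgroup G) ⊓ N := inf_le_inf_left _ hXN
  have hUp : IsPGroup p U := P.2.to_le inf_le_left
  -- `U` is a Sylow subgroup of `X`
  obtain ⟨T, hT⟩ := (hUp.comap_subtype (K := X)).exists_le_sylow
  set T' := (T : Subgroup X).map X.subtype
  have hUT : U ≤ T' := fun u hu => ⟨⟨u, (mem_inf.mp hu).2⟩, hT hu, rfl⟩
  have hTX : T' ≤ X := map_subtype_le _
  obtain ⟨w, hw, hwT⟩ := exists_conj_le (p := p) (N := N) (K := (P : Subgroup G) ⊓ N) (L := T') inf_le_right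
    (P.2.to_le inf_le_left) hidx (hTX.trans hXN) (T.2.map _)
  have hUeq : U = T' := by
    refine Subgroup.eq_of_le_of_card_ge hUT ?_
    rw [← card_cj w T']
    refine Subgroup.card_le_of_le ?_
    rintro _ ⟨t, ht, rfl⟩
    have e : (MulAut.conj w⁻¹).toMonoidHom t = w⁻¹ * t * w := by simp
    rw [e]
    refine mem_inf.mpr ⟨(mem_inf.mp (hwT ⟨t, ht, rfl⟩)).1, ?_⟩
    simpa using (mem_normalizer_iff.mp (hNX (inv_mem hw)) t).mp (hTX ht)
  have hXeq : WFactor.RO p X ⊔ U = X := hUeq ▸ Cfsg.Lib.FrakHBasic.ro_sup_sylow X T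
  have hDU : D < U := by
    refine lt_of_le_of_ne (le_inf hlt.le hDX) fun e => ?_
    have h1 : ¬ p ∣ U.relIndex X := by
      rw [hUeq, relIndex, subgroupOf, comap_map_eq_self_of_injective X.subtype_injective]
      exact T.not_dvd_index
    exact h1 (e ▸ hdX)
  -- the Frattini argument
  haveI : (X.subgroupOf N).Normal := normal_subgroupOf_of_le_normalizer hNX
  set SN : Sylow p N :=
    ((P.2.to_le (inf_le_left : (P : Subgroup G) ⊓ N ≤ P)).comap_subtype (K := N)).toSylow hidx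
  obtain ⟨a, ha, c, hc, e⟩ := Cfsg.Lib.Reduced.exists_frattini SN (X.subgroupOf N) ⟨x, hx⟩
  have ha' : (a : G) ∈ normalizer (U : Set G) := Cfsg.Lib.Large.mem_normalizer_of_le _ fun u hu => by
    have h1 := (mem_normalizer_iff.mp ha ⟨u, (hUP hu).2⟩).mp
      (mem_inf.mpr ⟨(show (⟨u, (hUP hu).2⟩ : N) ∈ (SN : Subgroup N) from hUP hu), (mem_inf.mp hu).2⟩)
    obtain ⟨h2, h3⟩ := mem_inf.mp h1
    exact mem_inf.mpr ⟨(mem_inf.mp (show ((a * ⟨u, (hUP hu).2⟩ * a⁻¹ : N) : G) ∈ (P : Subgroup G) ⊓ N from h2)).1, h3⟩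
  have hUW : ∀ n ∈ N, n ∈ normalizer (U : Set G) → n ∈ W := fun n hn hnU =>
    hmove U hDU inf_le_left n hn fun r hr => by
      have h1 := (mem_normalizer_iff.mp (inv_mem hnU) r).mp hr
      rw [inv_inv] at h1
      exact (mem_inf.mp h1).1
  have hRW : WFactor.RO p X ≤ W := fun o ho => by
    refine ⟨hXN (WFactor.ro_le X ho), 1, one_mem _, o, ?_, 1, one_mem _, by group⟩
    have hstep : Step P D o := ⟨hlt, hidx, ⟨W, hwit⟩, fun Y h1 h2 h3 h4 =>
      WFactor.ro_mono (hleast Y h1 h2 h3 h4) ho⟩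
    have h1 := SC.cons (D : Set G) D o 1 subset_rfl hstep (SC.one _)
    rwa [mul_one] at h1
  have hXW : X ≤ W := hXeq.ge.trans
    (sup_le hRW fun u hu => hUW u (hUP hu).2 (le_normalizer hu))
  have hxe : x = (a : G) * (c : G) := congrArg Subtype.val e
  rw [hxe]
  exact mul_mem (hUW _ a.2 ha') (hXW hc)

theorem exists_gc (P : Sylow p G) : ∀ (n : ℕ) (A : Set G) (g : G), A ⊆ (P : Set G) →
    Nat.card P - A.ncard ≤ n → cj g A ⊆ (P : Set G) → GC P A g := by
  intro n
  induction n using Nat.strong_induction_on with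
  | _ n ih =>
  intro A g hA hn hAg
  have hstep : ∀ Q : Sylow p G, Tame P Q → ∀ x ∈ NI P Q, ∀ C : Set G, C.ncard = A.ncard →
      C ⊆ (((P : Subgroup G) ⊓ (Q : Subgroup G) : Subgroup G) : Set G) → GC P C x := by
    intro Q hQ x hx C hC hCH
    set D : Subgroup G := (P : Subgroup G) ⊓ (Q : Subgroup G) with hD
    by_cases hDP : D = (P : Subgroup G)
    · refine ⟨1, one_mem _, 1, SC.one _, x, ?_, by group⟩
      rw [← hDP]
      exact hx
    refine (gc_of_larger (inf_le_left.lt_of_ne hDP) hQ.1 (fun R hDR hRP k hk => ?_) x hx).mono C hCH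
    have hlt : C.ncard < Nat.card R := by
      refine lt_of_le_of_lt (Set.ncard_le_ncard hCH) ?_
      rw [← Nat.card_coe_set_eq, SetLike.coe_sort_coe]
      exact lt_of_le_of_ne (Subgroup.card_le_of_le hDR.le) fun e => hDR.ne (eq_of_le_of_card_ge hDR.le e.ge)
    have hle : Nat.card R ≤ Nat.card P := Subgroup.card_le_of_le hRP
    refine ih (Nat.card P - Nat.card R) (by omega) (R : Set G) k hRP
      (by rw [← Nat.card_coe_set_eq, SetLike.coe_sort_coe]) ?_
    rintro _ ⟨r, hr, rfl⟩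
    exact hk r hr
  suffices ∀ (B : Set G) (k : G), Chain P B k → ∀ C : Set G, C.ncard = A.ncard → C ⊆ B →
      GC P C k from this A g (exists_chain P A g hA hAg) A rfl subset_rfl
  intro B k hk
  induction hk with
  | one B hB => exact fun C _ _ => ⟨1, one_mem _, 1, SC.one _, 1, one_mem _, by group⟩
  | cons B Q x k hB hQ hx _ ihk =>
    intro C hC hCB
    refine (hstep Q hQ x hx C hC (hCB.trans hB)).trans (ihk _ ?_ (cj_mono x hCB))
    rw [cj, Set.ncard_image_of_injective _ (fun a b h => by simpa using h), hC]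

theorem SC.exists_fin {A : Set G} {g : G} (h : SC P A g) :
    ∃ (n : ℕ) (D : Fin n → Subgroup G) (x : Fin n → G), (List.ofFn x).prod = g ∧
      ∀ i, Step P (D i) (x i) ∧ cj (((List.ofFn x).take i.val).prod) A ⊆ (D i : Set G) := by
  induction h with
  | one A => exact ⟨0, Fin.elim0, Fin.elim0, by simp, fun i => i.elim0⟩
  | cons A D x k hA hD _ ih =>
    obtain ⟨n, Ds, xs, hprod, h1⟩ := ih
    refine ⟨n + 1, Fin.cons D Ds, Fin.cons x xs, by rw [List.ofFn_cons, List.prod_cons, hprod], ?_⟩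
    refine Fin.cases ?_ fun j => ?_
    · refine ⟨by simpa using hD, ?_⟩
      simpa [cj_one] using hA
    · refine ⟨by simpa using (h1 j).1, ?_⟩
      simp only [Fin.cons_succ, Fin.val_succ]
      rw [List.ofFn_cons, List.take_succ_cons, List.prod_cons, ← cj_cj]
      exact (h1 j).2

theorem main (P : Sylow p G) (A : Set G) (hA : A ⊆ (P : Set G)) (g : G) (hAg : cj g A ⊆ (P : Set G)) :
    ∃ (n : ℕ) (H X : Fin n → Subgroup G) (x : Fin n → G) (c y : G),
      c ∈ centralizer A ∧ y ∈ normalizer ((P : Subgroup G) : Set G) ∧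
      g = c * (List.ofFn x).prod * y ∧
      ∀ i : Fin n,
        H i ≤ (P : Subgroup G) ∧
        ¬ p ∣ ((P : Subgroup G) ⊓ normalizer (H i : Set G)).relIndex (normalizer (H i : Set G)) ∧
        (P : Subgroup G) ⊓ centralizer (H i : Set G) ≤ H i ∧
        (Cfsg.pPrimePCore p ↥(normalizer (H i : Set G))).map (normalizer (H i : Set G)).subtype =
          H i ⊔ centralizer (H i : Set G) ∧
        ¬ Cfsg.IsSylowChainConnected p
            (↥(normalizer (H i : Set G)) ⧸ (H i).subgroupOf (normalizer (H i : Set G))) ∧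
        (H i ≤ X i ∧ X i ≤ normalizer (H i : Set G) ∧
          ((X i).subgroupOf (normalizer (H i : Set G))).Normal ∧ p ∣ (H i).relIndex (X i) ∧
          ∀ Y : Subgroup G, H i ≤ Y → Y ≤ normalizer (H i : Set G) →
            (Y.subgroupOf (normalizer (H i : Set G))).Normal → p ∣ (H i).relIndex Y → X i ≤ Y) ∧
        x i ∈ (Cfsg.pResidual p ↥(X i)).map (X i).subtype ∧
        cj (((List.ofFn x).take i.val).prod) A ⊆ (H i : Set G) := by
  obtain ⟨c, hc, k, hk, y, hy, rfl⟩ := exists_gc P _ A g hA le_rfl hAg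
  obtain ⟨n, D, x, rfl, h1⟩ := hk.exists_fin
  have h2 : ∀ i, ∃ X : Subgroup G, D i ≤ X ∧ X ≤ normalizer (D i : Set G) ∧
      normalizer (D i : Set G) ≤ normalizer (X : Set G) ∧ p ∣ (D i).relIndex X ∧
      ∀ Y : Subgroup G, D i ≤ Y → Y ≤ normalizer (D i : Set G) →
        normalizer (D i : Set G) ≤ normalizer (Y : Set G) → p ∣ (D i).relIndex Y → X ≤ Y := fun i => by
    obtain ⟨hlt, hidx, ⟨W, hW⟩, -⟩ := (h1 i).1
    exact exists_least_X hlt hidx hW
  choose X hDX hXN hNX hdX hleast using h2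
  refine ⟨n, D, X, x, c, y, hc, hy, rfl, fun i => ?_⟩
  obtain ⟨hst, hpre⟩ := h1 i
  obtain ⟨hC, heq, hnc⟩ := hst.props
  obtain ⟨hlt, hidx, -, hx⟩ := hst
  exact ⟨hlt.le, hidx, hC, heq, hnc, ⟨hDX i, hXN i, normal_subgroupOf_of_le_normalizer (hNX i), hdX i,
    fun Y h1 h2 h3 h4 => hleast i Y h1 h2 ((normal_subgroupOf_iff_le_normalizer h2).mp h3) h4⟩,
    hx _ (hDX i) (hXN i) (hNX i) (hdX i), hpre⟩

end Cfsg.Lib.StrongFusion
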