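import Cfsg.Agent.Components.Embedded.Connect
import Cfsg.Agent.Coprime.Generation
import Cfsg.Agent.Components.Reduced.Basic
import Cfsg.Agent.SolvStruct.AlperinClassical
import Cfsg.Agent.Components.Cores

/-!
Groups with a proper subgroup controlling the fusion of the nontrivial subgroups of a Sylow subgroup.
-/

set_option linter.style.haveILetI false
set_option linter.unusedSectionVars false

namespace Cfsg.Lib.StrongFusion

open Subgroup
open scoped Pointwise commutatorElement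

variable {Γ : Type*} [Group Γ] [Finite Γ] {p : ℕ} [hp : Fact p.Prime]

/-- `M` is proper and contains every element moving a nontrivial subgroup of `S` into `S` -/
def Ctrl (S : Sylow p Γ) (M : Subgroup Γ) : Prop :=
  M ≠ ⊤ ∧ ∀ R : Subgroup Γ, R ≠ ⊥ → R ≤ (S : Subgroup Γ) → ∀ n : Γ,
    (∀ r ∈ R, n⁻¹ * r * n ∈ (S : Subgroup Γ)) → n ∈ M

variable {S : Sylow p Γ} {M : Subgroup Γ}

theorem Ctrl.normalizer_le (h : Ctrl S M) {R : Subgroup Γ} (hR : R ≠ ⊥) (hRS : R ≤ (S : Subgroup Γ)) :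
    normalizer (R : Set Γ) ≤ M := fun n hn => h.2 R hR hRS n fun r hr => hRS <| by
  simpa using (mem_normalizer_iff.mp (inv_mem hn) r).mp hr

theorem Ctrl.not_connected (h : Ctrl S M) (hd : p ∣ Nat.card Γ) : ¬ Cfsg.IsSylowChainConnected p Γ := by
  rw [Cfsg.Lib.Embedded.connected_iff]
  intro hc
  have hS : (S : Subgroup Γ) ≠ ⊥ := Cfsg.Lib.Embedded.ne_bot_of_dvd (S.dvd_card_of_dvd_card hd)
  have hNS := h.normalizer_le hS le_rfl
  have key : ∀ T : Sylow p Γ, Relation.ReflTransGen Cfsg.Lib.Embedded.Meets S T → ∃ w ∈ M, w • S = T := by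
    intro T hT
    induction hT with
    | refl => exact ⟨1, one_mem _, one_smul _ _⟩
    | @tail U V _ hUV ih =>
      obtain ⟨w, hw, rfl⟩ := ih
      obtain ⟨n, hn⟩ := MulAction.exists_smul_eq Γ S (w⁻¹ • V)
      refine ⟨w * n, mul_mem hw (h.2 ((S : Subgroup Γ) ⊓ ((n • S : Sylow p Γ) : Subgroup Γ)) ?_ inf_le_left n ?_), ?_⟩
      · have h1 := Cfsg.Lib.Embedded.meets_smul w⁻¹ hUV
        rw [inv_smul_smul, ← hn] at h1
        exact h1
      · intro r hr
        have h1 := (mem_inf.mp hr).2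
        rw [Cfsg.Lib.Transfer.sylow_smul_coe] at h1
        obtain ⟨s, hs, rfl⟩ := h1
        show n⁻¹ * (n * s * n⁻¹) * n ∈ (S : Subgroup Γ)
        rw [show n⁻¹ * (n * s * n⁻¹) * n = s by group]
        exact hs
      · rw [mul_smul, hn, smul_inv_smul]
  refine h.1 (eq_top_iff.mpr fun g _ => ?_)
  obtain ⟨w, hw, e⟩ := key (g • S) (hc S (g • S))
  have h2 : w⁻¹ * g ∈ M := hNS (Sylow.smul_eq_iff_mem_normalizer.mp (by rw [mul_smul, ← e, inv_smul_smul]))
  simpa using mul_mem hw h2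

theorem exists_order_p (X : Subgroup Γ) [hX : X.Normal] (hd : p ∣ Nat.card X) (S : Sylow p Γ) :
    ∃ x ∈ X, x ∈ (S : Subgroup Γ) ∧ orderOf x = p := by
  obtain ⟨x, hx⟩ := exists_prime_orderOf_dvd_card' p hd
  have hxp : orderOf (x : Γ) = p := by rw [Subgroup.orderOf_coe, hx]
  obtain ⟨T, hT⟩ :=
    (IsPGroup.of_card (G := zpowers (x : Γ)) (n := 1) (by rw [Nat.card_zpowers, hxp, pow_one])).exists_le_sylow
  obtain ⟨g, hg⟩ := MulAction.exists_smul_eq Γ T S
  refine ⟨g * x * g⁻¹, hX.conj_mem x x.2 g, ?_, ?_⟩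
  · rw [← hg, Cfsg.Lib.Transfer.sylow_smul_coe]
    exact ⟨x, hT (mem_zpowers _), rfl⟩
  · rw [show g * (x : Γ) * g⁻¹ = MulAut.conj g (x : Γ) from rfl, MulEquiv.orderOf_eq, hxp]

theorem Ctrl.dvd_inf (h : Ctrl S M) (X Y : Subgroup Γ) [hX : X.Normal] [hY : Y.Normal]
    (hdX : p ∣ Nat.card X) (hdY : p ∣ Nat.card Y) : p ∣ Nat.card ↥(X ⊓ Y) := by
  by_contra hD
  set D := X ⊓ Y with hDdef
  haveI : D.Normal := normal_inf_normal X Y
  obtain ⟨x, hxX, hxS, hxp⟩ := exists_order_p X hdX S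
  obtain ⟨y, hyY, hyS, hyp⟩ := exists_order_p Y hdY S
  have hcopD : (Nat.card D).Coprime p := (hp.out.coprime_iff_not_dvd.mpr hD).symm
  have hDp : ∀ z ∈ D, z ∈ (S : Subgroup Γ) → z = 1 := fun z hz hzS => by
    obtain ⟨k, hk⟩ := S.2 ⟨z, hzS⟩
    exact orderOf_eq_one_iff.mp (Nat.eq_one_of_dvd_coprimes (hcopD.pow_right k)
      ((Subgroup.orderOf_mk z hz).symm ▸ orderOf_dvd_natCard _)
      (orderOf_dvd_of_pow_eq_one (congrArg Subtype.val hk)))
  have hxy : x * y = y * x := by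
    refine commutatorElement_eq_one_iff_mul_comm.mp (hDp _ (mem_inf.mpr ⟨?_, ?_⟩) ?_)
    · rw [show ⁅x, y⁆ = x * (y * x⁻¹ * y⁻¹) by group]
      exact mul_mem hxX (hX.conj_mem _ (inv_mem hxX) y)
    · rw [commutatorElement_def]
      exact mul_mem (hY.conj_mem y hyY x) (inv_mem hyY)
    · rw [commutatorElement_def]
      exact mul_mem (mul_mem (mul_mem hxS hyS) (inv_mem hxS)) (inv_mem hyS)
  have hyR : zpowers y ≠ ⊥ := by
    rw [ne_eq, zpowers_eq_bot]
    exact fun e => hp.out.ne_one (by rw [← hyp, e, orderOf_one])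
  have hcopy : (Nat.card D).Coprime (Nat.card (zpowers y)) := by rw [Nat.card_zpowers, hyp]; exact hcopD
  -- Frattini in `D⟨y⟩`
  have hXM : X ≤ D ⊔ M := by
    intro g hg
    set K := D ⊔ zpowers y
    have hidx : ¬ p ∣ (zpowers y).relIndex K := by
      have hc := Cfsg.Lib.Coprime.card_sup_coprime (le_normalizer_of_normal (K := zpowers y)) hcopy
      have h1 := card_mul_index ((zpowers y).subgroupOf K)
      rw [Nat.card_congr (subgroupOfEquivOfLe (le_sup_right : zpowers y ≤ K)).toEquiv, hc, mul_comm (Nat.card D)] at h1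
      rw [relIndex, Nat.eq_of_mul_eq_mul_left Nat.card_pos h1]
      exact hD
    have hgy : g * y * g⁻¹ ∈ K := by
      rw [show g * y * g⁻¹ = ⁅g, y⁆ * y by group]
      refine mul_mem (mem_sup_left (mem_inf.mpr ⟨?_, ?_⟩)) (mem_sup_right (mem_zpowers y))
      · rw [show ⁅g, y⁆ = g * (y * g⁻¹ * y⁻¹) by group]
        exact mul_mem hg (hX.conj_mem _ (inv_mem hg) y)
      · rw [commutatorElement_def]
        exact mul_mem (hY.conj_mem y hyY g) (inv_mem hyY)
    have hcy : orderOf (g * y * g⁻¹) = p := by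
      rw [show g * y * g⁻¹ = MulAut.conj g y from rfl, MulEquiv.orderOf_eq, hyp]
    obtain ⟨k, hk, hle⟩ := Cfsg.Lib.SolvStruct.Alperin.exists_conj_le (p := p) (N := K) (K := zpowers y)
      (L := zpowers (g * y * g⁻¹)) le_sup_right (S.2.to_le (zpowers_le.mpr hyS)) hidx (zpowers_le.mpr hgy)
      (IsPGroup.of_card (n := 1) (by rw [Nat.card_zpowers, hcy, pow_one]))
    have hyk : k⁻¹ * (g * y * g⁻¹) * k ∈ zpowers y := hle ⟨_, mem_zpowers _, rfl⟩
    have hm : g⁻¹ * k ∈ M := by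
      refine inv_inv (g⁻¹ * k) ▸ inv_mem (h.2 (zpowers y) hyR (zpowers_le.mpr hyS) _ fun r hr => ?_)
      obtain ⟨i, rfl⟩ := mem_zpowers_iff.mp hr
      have e : (g⁻¹ * k)⁻¹⁻¹ * y ^ i * (g⁻¹ * k)⁻¹ = g⁻¹ * k * y ^ i * (g⁻¹ * k)⁻¹ := by group
      rw [e]
      have h3 : k⁻¹ * (g * y * g⁻¹) * k ∈ zpowers y := hyk
      obtain ⟨j, hj⟩ := mem_zpowers_iff.mp h3
      have hz : zpowers (k⁻¹ * (g * y * g⁻¹) * k) = zpowers y := by
        refine Subgroup.eq_of_le_of_card_ge (zpowers_le.mpr h3) ?_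
        rw [Nat.card_zpowers, Nat.card_zpowers, hyp,
          show k⁻¹ * (g * y * g⁻¹) * k = MulAut.conj k⁻¹ (g * y * g⁻¹) by simp, MulEquiv.orderOf_eq, hcy]
      obtain ⟨l, hl⟩ := mem_zpowers_iff.mp (hz.ge (zpow_mem (mem_zpowers y) i))
      rw [← hl, show k⁻¹ * (g * y * g⁻¹) * k = k⁻¹ * g * y * (k⁻¹ * g)⁻¹ by group, conj_zpow,
        show g⁻¹ * k * (k⁻¹ * g * y ^ l * (k⁻¹ * g)⁻¹) * (g⁻¹ * k)⁻¹ = y ^ l by group]
      exact zpow_mem hyS l
    have hDM : k ∈ D ⊔ M := sup_le_sup_left (zpowers_le.mpr (h.normalizer_le hyR (zpowers_le.mpr hyS)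
      (le_normalizer (mem_zpowers y)))) D hk
    have := mul_mem hDM (mem_sup_right (inv_mem hm))
    rwa [show k * (g⁻¹ * k)⁻¹ = g by group] at this
  -- hence `Γ = DM`
  have hSX : (S : Subgroup Γ) ⊓ X ≠ ⊥ := fun e => by
    have : x = 1 := mem_bot.mp (e.le ⟨hxS, hxX⟩)
    rw [this, orderOf_one] at hxp
    exact hp.out.ne_one hxp.symm
  have htop : D ⊔ M = ⊤ := eq_top_iff.mpr fun g _ => by
    obtain ⟨a, ha, c, hc, rfl⟩ := Cfsg.Lib.Reduced.exists_frattini S X g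
    exact mul_mem (mem_sup_right (h.normalizer_le hSX inf_le_left ha)) (hXM hc)
  -- and `D ≤ M` by generation
  set E := zpowers x ⊔ zpowers y with hE
  have hES : E ≤ (S : Subgroup Γ) := sup_le (zpowers_le.mpr hxS) (zpowers_le.mpr hyS)
  have hcomm : ∀ a ∈ E, ∀ b ∈ E, a * b = b * a := by
    have hle : E ≤ centralizer ({x, y} : Set Γ) := by
      refine sup_le (zpowers_le.mpr ?_) (zpowers_le.mpr ?_) <;>
        exact mem_centralizer_iff.mpr (by rintro z (rfl | rfl) <;> first | rfl | exact hxy | exact hxy.symm)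
    intro a ha b hb
    have : b ∈ centralizer ({a} : Set Γ) := by
      have hxy' : E ≤ centralizer ({a} : Set Γ) := sup_le
        (zpowers_le.mpr (mem_centralizer_iff.mpr (by rintro z rfl; exact (mem_centralizer_iff.mp (hle ha) x (Or.inl rfl)).symm)))
        (zpowers_le.mpr (mem_centralizer_iff.mpr (by rintro z rfl; exact (mem_centralizer_iff.mp (hle ha) y (Or.inr rfl)).symm)))
      exact hxy' hb
    exact mem_centralizer_iff.mp this a rfl
  haveI : IsMulCommutative E := ⟨⟨fun a b => Subtype.ext (hcomm a a.2 b b.2)⟩⟩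
  have hinf : zpowers x ⊓ zpowers y = ⊥ := eq_bot_iff.mpr fun z hz => mem_bot.mpr (hDp z
    ⟨zpowers_le.mpr hxX (mem_inf.mp hz).1, zpowers_le.mpr hyY (mem_inf.mp hz).2⟩
    (zpowers_le.mpr hxS (mem_inf.mp hz).1))
  have hxcy : zpowers y ≤ normalizer (zpowers x : Set Γ) := zpowers_le.mpr
    (centralizer_le_normalizer _ (mem_centralizer_iff.mpr fun z hz =>
      hcomm z (mem_sup_left hz) y (mem_sup_right (mem_zpowers y))))
  have hcard : Nat.card E = p * p := by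
    rw [hE, Cfsg.Lib.Coprime.card_sup_of_inf_eq_bot hxcy hinf, Nat.card_zpowers, Nat.card_zpowers, hxp, hyp]
  have hexp : ∀ z ∈ E, z ^ p = 1 := fun z hz => by
    obtain ⟨a, ha, b, hb, rfl⟩ := (Cfsg.Lib.Coprime.mem_sup_of_le_normalizer hxcy).mp hz
    obtain ⟨i, rfl⟩ := mem_zpowers_iff.mp ha
    obtain ⟨j, rfl⟩ := mem_zpowers_iff.mp hb
    rw [((show Commute x y from hxy).zpow_zpow i j).mul_pow, ← zpow_natCast, ← zpow_natCast, ← zpow_mul, ← zpow_mul,
      mul_comm i, mul_comm j, zpow_mul, zpow_mul, zpow_natCast, zpow_natCast, ← hxp, pow_orderOf_eq_one, hxp, ← hyp,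
      pow_orderOf_eq_one, one_zpow, one_zpow, one_mul]
  have hncyc : ¬ IsCyclic E := fun hc => by
    obtain ⟨z, hz⟩ := IsCyclic.exists_ofOrder_eq_natCard (α := E)
    have h1 : orderOf (z : Γ) ∣ p := orderOf_dvd_of_pow_eq_one (hexp z z.2)
    rw [Subgroup.orderOf_coe, hz, hcard] at h1
    exact absurd (Nat.le_of_dvd hp.out.pos h1) (not_le.mpr (lt_mul_self hp.out.one_lt))
  have hcopE : (Nat.card E).Coprime (Nat.card D) := by
    rw [hcard]; exact Nat.Coprime.mul_left hcopD.symm hcopD.symm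
  have hDM : D ≤ M := by
    rw [← Cfsg.Lib.Coprime.centralizerJoin_eq hncyc (le_normalizer_of_normal (K := E)) hcopE]
    refine iSup₂_le fun a ha => inf_le_right.trans ?_
    rw [← Cfsg.Lib.Coprime.centralizer_zpowers]
    exact (centralizer_le_normalizer _).trans
      (h.normalizer_le (by rw [ne_eq, zpowers_eq_bot]; exact ha.2) (zpowers_le.mpr (hES ha.1)))
  rw [sup_eq_right.mpr hDM] at htop
  exact h.1 htop

/-- the smallest normal subgroup of order divisible by `p` -/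
theorem Ctrl.exists_least (h : Ctrl S M) (hd : p ∣ Nat.card Γ) :
    ∃ X : Subgroup Γ, X.Normal ∧ p ∣ Nat.card X ∧ ∀ Y : Subgroup Γ, Y.Normal → p ∣ Nat.card Y → X ≤ Y := by
  obtain ⟨X, ⟨hX, hdX⟩, hmin⟩ := WellFounded.has_min (wellFounded_lt (α := Subgroup Γ))
    {X | X.Normal ∧ p ∣ Nat.card X} ⟨⊤, inferInstance, by rwa [card_top]⟩
  refine ⟨X, hX, hdX, fun Y hY hdY => ?_⟩
  by_contra hne
  haveI := hX; haveI := hY
  exact hmin (X ⊓ Y) ⟨normal_inf_normal X Y, h.dvd_inf X Y hdX hdY⟩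
    (inf_le_left.lt_of_ne fun e => hne (inf_eq_left.mp e))

end Cfsg.Lib.StrongFusion
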