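import Cfsg.Agent.Components.StrongFusion.Quotient
import Cfsg.Agent.Components.Misc.AlperinGoldschmidtChain
import Cfsg.Agent.Components.Reduced.FrakHBasic

/-!
The factors in the strong form of the Alperin–Goldschmidt theorem.
-/

set_option linter.style.haveILetI false
set_option linter.unusedSectionVars false

namespace Cfsg.Lib.StrongFusion

open Subgroup Cfsg.Lib.SolvStruct.Alperin

variable {G : Type*} [Group G] [Finite G] {p : ℕ} [hp : Fact p.Prime]

/-- `W` is proper in `N(D)` and contains the elements moving larger subgroups of `P` into `P` -/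
def Wit (P : Sylow p G) (D W : Subgroup G) : Prop :=
  W ≤ normalizer (D : Set G) ∧ W ≠ normalizer (D : Set G) ∧ centralizer (D : Set G) ≤ W ∧
    ∀ R : Subgroup G, D < R → R ≤ (P : Subgroup G) → ∀ n ∈ normalizer (D : Set G),
      (∀ r ∈ R, n⁻¹ * r * n ∈ (P : Subgroup G)) → n ∈ W

/-- a factor -/
def Step (P : Sylow p G) (D : Subgroup G) (x : G) : Prop :=
  D < (P : Subgroup G) ∧
    ¬ p ∣ ((P : Subgroup G) ⊓ normalizer (D : Set G)).relIndex (normalizer (D : Set G)) ∧
    (∃ W, Wit P D W) ∧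
    ∀ X : Subgroup G, D ≤ X → X ≤ normalizer (D : Set G) → normalizer (D : Set G) ≤ normalizer (X : Set G) →
      p ∣ D.relIndex X → x ∈ WFactor.RO p X

variable {P : Sylow p G} {D W : Subgroup G}

theorem ro_map_mem (f : MulAut G) {X : Subgroup G} {x : G} (hx : x ∈ WFactor.RO p X) :
    f x ∈ WFactor.RO p (X.map f.toMonoidHom) := by
  have h : WFactor.RO p X ≤ (WFactor.RO p (X.map f.toMonoidHom)).comap f.toMonoidHom :=
    WFactor.ro_le_of X _ fun y hy hc =>
      WFactor.mem_ro (mem_map_of_mem _ hy) (by rw [show f.toMonoidHom y = f y from rfl, MulEquiv.orderOf_eq]; exact hc)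
  exact h hx

theorem Step.map (f : MulAut G) (hf : (P : Subgroup G).map f.toMonoidHom = (P : Subgroup G)) {x : G}
    (h : Step P D x) : Step P (D.map f.toMonoidHom) (f x) := by
  obtain ⟨hlt, hidx, ⟨W, hW1, hW2, hW3, hW4⟩, hX⟩ := h
  have hinj : Function.Injective f.toMonoidHom := f.injective
  have hN : normalizer ((D.map f.toMonoidHom : Subgroup G) : Set G) =
      (normalizer (D : Set G)).map f.toMonoidHom := (Subgroup.map_equiv_normalizer_eq D f).symm
  have hback : ∀ K : Subgroup G, (K.comap f.toMonoidHom).map f.toMonoidHom = K := fun K =>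
    map_comap_eq_self_of_surjective f.surjective K
  refine ⟨?_, ?_, ⟨W.map f.toMonoidHom, ?_, ?_, ?_, ?_⟩, fun X hDX hXN hNX hd => ?_⟩
  · rw [← hf]; exact (map_lt_map_iff_of_injective hinj).mpr hlt
  · rw [hN]
    conv => rw [← hf]
    rw [← Subgroup.map_inf _ _ _ hinj, relIndex_map_map_of_injective _ _ hinj]
    exact hidx
  · rw [hN]; exact map_mono hW1
  · rw [hN]; exact fun e => hW2 (map_injective hinj e)
  · intro c hc
    obtain ⟨c, rfl⟩ := f.surjective c
    exact mem_map_of_mem _ (hW3 (mem_centralizer_iff.mpr fun d hd => f.injective (by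
      rw [map_mul, map_mul]; exact mem_centralizer_iff.mp hc _ (mem_map_of_mem _ hd))))
  · intro R hR hRP n hn hmove
    rw [hN] at hn
    obtain ⟨n, hn', rfl⟩ := hn
    refine mem_map_of_mem _ (hW4 (R.comap f.toMonoidHom) ?_ ?_ n hn' fun r hr => ?_)
    · rw [← map_lt_map_iff_of_injective hinj, hback]; exact hR
    · rw [← map_le_map_iff_of_injective hinj, hback, hf]; exact hRP
    · have h1 := hmove (f r) hr
      rw [← hf] at h1
      obtain ⟨q, hq, e⟩ := h1
      have e' : q = n⁻¹ * r * n := f.injective (by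
        rw [map_mul, map_mul, map_inv]; exact e)
      exact e' ▸ hq
  · have hXc := hback X
    rw [← hXc]
    refine ro_map_mem f (hX _ ?_ ?_ ?_ ?_)
    · exact map_le_iff_le_comap.mp hDX
    · rw [← map_le_map_iff_of_injective hinj, hback, ← hN]; exact hXN
    · rw [← map_le_map_iff_of_injective hinj, ← hN, Subgroup.map_equiv_normalizer_eq _ f]
      rw [hback]
      exact hNX
    · rw [← relIndex_map_map_of_injective _ _ hinj, hback]; exact hd

theorem Wit.le_mem (hlt : D < (P : Subgroup G)) (h : Wit P D W) :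
    ∀ n ∈ (P : Subgroup G) ⊓ normalizer (D : Set G), n ∈ W := fun n hn =>
  h.2.2.2 _ (Cfsg.Lib.Transfer.lt_inf_normalizer_of_lt P hlt) inf_le_left n (mem_inf.mp hn).2 fun _ hr =>
    mul_mem (mul_mem (inv_mem (mem_inf.mp hn).1) (mem_inf.mp hr).1) (mem_inf.mp hn).1

/-- the consequences for the quotient `N(D)/D` -/
theorem quotient_ctrl (hlt : D < (P : Subgroup G))
    (hidx : ¬ p ∣ ((P : Subgroup G) ⊓ normalizer (D : Set G)).relIndex (normalizer (D : Set G)))
    (h : Wit P D W) :
    p ∣ Nat.card (↥(normalizer (D : Set G)) ⧸ D.subgroupOf (normalizer (D : Set G))) ∧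
      ∃ (S : Sylow p (↥(normalizer (D : Set G)) ⧸ D.subgroupOf (normalizer (D : Set G))))
        (M : Subgroup (↥(normalizer (D : Set G)) ⧸ D.subgroupOf (normalizer (D : Set G)))), Ctrl S M := by
  set N := normalizer (D : Set G)
  set D' := D.subgroupOf N
  have hDPN := Cfsg.Lib.Transfer.lt_inf_normalizer_of_lt P hlt
  have hDW : D ≤ W := fun d hd => h.le_mem hlt d (hDPN.le hd)
  set SN : Sylow p N :=
    ((P.2.to_le (inf_le_left : (P : Subgroup G) ⊓ N ≤ P)).comap_subtype (K := N)).toSylow hidx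
  have hSN : ∀ s : N, s ∈ (SN : Subgroup N) ↔ (s : G) ∈ (P : Subgroup G) ⊓ N := fun s => Iff.rfl
  set π := QuotientGroup.mk' D'
  have hπ : Function.Surjective π := QuotientGroup.mk'_surjective D'
  set S := SN.mapSurjective hπ
  have hS : (S : Subgroup (N ⧸ D')) = (SN : Subgroup N).map π := Sylow.coe_mapSurjective hπ SN
  have hDS : D' ≤ (SN : Subgroup N) := fun d hd => hDPN.le hd
  have hker : ∀ s : N, π s ∈ (S : Subgroup (N ⧸ D')) → (s : G) ∈ (P : Subgroup G) ⊓ N := fun s hs => by
    rw [hS, ← mem_comap, comap_map_eq, QuotientGroup.ker_mk', sup_eq_left.mpr hDS] at hs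
    exact hs
  constructor
  · refine (Cfsg.Lib.Embedded.dvd_of_ne_bot S.2 fun e => ?_).trans (card_subgroup_dvd_card _)
    rw [hS, Subgroup.map_eq_bot_iff, QuotientGroup.ker_mk'] at e
    exact hDPN.not_ge fun x hx => e (show (⟨x, (mem_inf.mp hx).2⟩ : N) ∈ (SN : Subgroup N) from hx)
  refine ⟨S, (W.subgroupOf N).map π, fun e => h.2.1 (le_antisymm h.1 fun x hx => ?_), fun R hR hRS n hn => ?_⟩
  · have h1 : (⟨x, hx⟩ : N) ∈ ((W.subgroupOf N).map π).comap π := by rw [e]; exact mem_top _
    rw [comap_map_eq, QuotientGroup.ker_mk', sup_eq_left.mpr (fun d hd => hDW hd)] at h1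
    exact h1
  · obtain ⟨n, rfl⟩ := hπ n
    set R0 := (R.comap π ⊓ (SN : Subgroup N)).map N.subtype
    have hDR : D < R0 := by
      refine lt_of_le_of_ne (fun d hd => ⟨⟨d, le_normalizer hd⟩, ⟨?_, hDS hd⟩, rfl⟩) fun e => hR ?_
      · show π _ ∈ R
        rw [show π ⟨d, le_normalizer hd⟩ = 1 from (QuotientGroup.eq_one_iff _).mpr hd]
        exact one_mem R
      · rw [eq_bot_iff]
        intro r hr
        have hr' := hRS hr
        rw [hS] at hr'
        obtain ⟨s, hs, rfl⟩ := hr'
        exact mem_bot.mpr ((QuotientGroup.eq_one_iff s).mpr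
          (show (s : G) ∈ D from e.ge ⟨s, ⟨hr, hs⟩, rfl⟩))
    refine mem_map_of_mem π (h.2.2.2 R0 hDR ?_ n n.2 ?_)
    · rintro _ ⟨s, hs, rfl⟩
      exact (mem_inf.mp (show (s : G) ∈ (P : Subgroup G) ⊓ N from hs.2)).1
    · rintro _ ⟨s, hs, rfl⟩
      exact (mem_inf.mp (hker (n⁻¹ * s * n) (by rw [map_mul, map_mul, map_inv]; exact hn _ hs.1))).1

theorem relIndex_eq_card {X : Subgroup G} (hDX : D ≤ X) (hXN : X ≤ normalizer (D : Set G)) :
    Nat.card ↥((X.subgroupOf (normalizer (D : Set G))).map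
      (QuotientGroup.mk' (D.subgroupOf (normalizer (D : Set G))))) = D.relIndex X := by
  set N := normalizer (D : Set G)
  have h1 : Nat.card ↥((X.subgroupOf N).map (QuotientGroup.mk' (D.subgroupOf N))) =
      (D.subgroupOf N).relIndex (X.subgroupOf N) := by
    conv_rhs => rw [← QuotientGroup.ker_mk' (D.subgroupOf N), relIndex_ker]
  rw [h1, ← relIndex_map_map_of_injective _ _ N.subtype_injective, map_subgroupOf_eq_of_le (hDX.trans hXN),
    map_subgroupOf_eq_of_le hXN]

/-- the smallest overgroup of `D` normal in `N(D)` with index divisible by `p` -/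
theorem exists_least_X (hlt : D < (P : Subgroup G))
    (hidx : ¬ p ∣ ((P : Subgroup G) ⊓ normalizer (D : Set G)).relIndex (normalizer (D : Set G)))
    (h : Wit P D W) :
    ∃ X : Subgroup G, D ≤ X ∧ X ≤ normalizer (D : Set G) ∧ normalizer (D : Set G) ≤ normalizer (X : Set G) ∧
      p ∣ D.relIndex X ∧
      ∀ Y : Subgroup G, D ≤ Y → Y ≤ normalizer (D : Set G) → normalizer (D : Set G) ≤ normalizer (Y : Set G) →
        p ∣ D.relIndex Y → X ≤ Y := by
  obtain ⟨hd, S, M, hC⟩ := quotient_ctrl hlt hidx h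
  obtain ⟨X, hXn, hdX, hleast⟩ := hC.exists_least hd
  set N := normalizer (D : Set G)
  set D' := D.subgroupOf N
  set π := QuotientGroup.mk' D'
  have hπ : Function.Surjective π := QuotientGroup.mk'_surjective D'
  set X0 := (X.comap π).map N.subtype
  have hX0 : X0.subgroupOf N = X.comap π := comap_map_eq_self_of_injective N.subtype_injective _
  have hDX : D ≤ X0 := fun d hd => ⟨⟨d, le_normalizer hd⟩, by
    show π _ ∈ X
    rw [show π ⟨d, le_normalizer hd⟩ = 1 from (QuotientGroup.eq_one_iff _).mpr hd]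
    exact one_mem X, rfl⟩
  haveI : (X0.subgroupOf N).Normal := hX0 ▸ hXn.comap π
  refine ⟨X0, hDX, map_subtype_le _, normal_subgroupOf_iff_le_normalizer (map_subtype_le _) |>.mp inferInstance,
    ?_, fun Y hDY hYN hNY hdY => ?_⟩
  · rw [← relIndex_eq_card hDX (map_subtype_le _), hX0, map_comap_eq_self_of_surjective hπ]
    exact hdX
  · haveI : (Y.subgroupOf N).Normal := normal_subgroupOf_of_le_normalizer hNY
    have hle := hleast ((Y.subgroupOf N).map π) (Normal.map inferInstance π hπ)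
      (by rw [relIndex_eq_card hDY hYN]; exact hdY)
    rintro _ ⟨x, hx, rfl⟩
    have h1 : x ∈ ((Y.subgroupOf N).map π).comap π := hle hx
    rw [comap_map_eq, QuotientGroup.ker_mk', sup_eq_left.mpr (fun d hd => hDY hd)] at h1
    exact h1

/-- the properties of a factor -/
theorem Step.props {x : G} (h : Step P D x) :
    (P : Subgroup G) ⊓ centralizer (D : Set G) ≤ D ∧
    (Cfsg.pPrimePCore p ↥(normalizer (D : Set G))).map (normalizer (D : Set G)).subtype =
      D ⊔ centralizer (D : Set G) ∧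
    ¬ Cfsg.IsSylowChainConnected p (↥(normalizer (D : Set G)) ⧸ D.subgroupOf (normalizer (D : Set G))) := by
  obtain ⟨hlt, hidx, ⟨W, hW⟩, -⟩ := h
  obtain ⟨hd, S, M, hC⟩ := quotient_ctrl hlt hidx hW
  refine ⟨?_, ?_, hC.not_connected hd⟩ <;>
  rcases Cfsg.Lib.Misc.AGChain.good_or_split_map P D hlt.le hidx with ⟨-, h2, ⟨h3, h4, h5, h6, h7⟩, -⟩ | hs
  rotate_left
  · exfalso
    refine hW.2.1 (le_antisymm hW.1 fun n hn => ?_)
    obtain ⟨K, hK, hKP, c, hc, y, hy, rfl⟩ := hs n hn
    have hyD : y ∈ normalizer (D : Set G) := by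
      simpa using mul_mem (inv_mem (centralizer_le_normalizer _ hc)) hn
    exact mul_mem (hW.2.2.1 hc) (hW.2.2.2 K hK hKP y hyD fun r hr => hKP <| by
      simpa using (mem_normalizer_iff.mp (inv_mem hy) r).mp hr)
  · refine le_antisymm ?_ (sup_le h4 h2)
    rw [← h7]
    exact sup_le ((fun o ho => mem_sup_right (mem_centralizer_iff.mpr fun d hd => (h5 o ho d hd).symm))) le_sup_left
  · exfalso
    refine hW.2.1 (le_antisymm hW.1 fun n hn => ?_)
    obtain ⟨K, hK, hKP, c, hc, y, hy, rfl⟩ := hs n hn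
    have hyD : y ∈ normalizer (D : Set G) := by
      simpa using mul_mem (inv_mem (centralizer_le_normalizer _ hc)) hn
    exact mul_mem (hW.2.2.1 hc) (hW.2.2.2 K hK hKP y hyD fun r hr => hKP <| by
      simpa using (mem_normalizer_iff.mp (inv_mem hy) r).mp hr)
  · intro z hz
    obtain ⟨hzP, hzC⟩ := mem_inf.mp hz
    set O := (Cfsg.pPrimeCore p ↥(normalizer (D : Set G))).map (normalizer (D : Set G)).subtype
    have hDO : D ≤ normalizer (O : Set G) := fun d hd => centralizer_le_normalizer _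
      (mem_centralizer_iff.mpr fun o ho => h5 o ho d hd)
    obtain ⟨o, ho, d, hd, rfl⟩ := (Cfsg.Lib.Coprime.mem_sup_of_le_normalizer hDO).mp (h7.ge (h2 hzC))
    have hoP : o ∈ (P : Subgroup G) := by simpa using mul_mem hzP (inv_mem (hlt.le hd))
    obtain ⟨k, hk⟩ := P.2 ⟨o, hoP⟩
    obtain ⟨o', ho', rfl⟩ := ho
    have h1 : o' = 1 := orderOf_eq_one_iff.mp (Nat.eq_one_of_dvd_coprimes
      ((Cfsg.Lib.Components.coprime_card_pPrimeCore p (G := ↥(normalizer (D : Set G)))).symm.pow_left k).symm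
      ((Subgroup.orderOf_mk o' ho').symm ▸ orderOf_dvd_natCard _)
      (orderOf_dvd_of_pow_eq_one (Subtype.ext (by simpa using congrArg Subtype.val hk))))
    rw [h1, map_one, one_mul]
    exact hd

end Cfsg.Lib.StrongFusion
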